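import Cfsg.Agent.H201.Fi.Arith2

/-!
# The degrees of `Fi24'` modulo 23: the enumeration (helper133)

`arith` : a degree `n` of a character which extends to `Fi24`, `n < 60928` if `n ≡ ± 1`, `n < 86768` if `n ≡ ± 11` modulo 23:
`(n, |u|, B)` is in the list `exc` (these are excluded by the weights of `2^12` and by a level inequality).
-/

set_option autoImplicit false
set_option maxRecDepth 100000

namespace Cfsg.Agent.H133.TC

open Cfsg.Agent.H201.Fi (R11 R13)

/-- degree conditions -/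
def okF (n : ℕ) : Bool :=
  1255205709190661721292800 % n == 0 && ((n % 29 == 0 || n % 29 == 1 || n % 29 == 28) &&
    (n % 17 == 0 || n % 17 == 1 || n % 17 == 16))

/-- the candidates `± 1` -/
def candN : List ℕ := [1, 783, 3451, 5220, 7888, 10556, 11340, 14790, 19227, 34800, 48807, 53244]

/-- the candidates `± 11` -/
def candX : List ℕ := [1276, 2058, 3944, 7395, 16065, 16848, 17952, 26622, 27405, 37179, 37961, 41412, 49300, 51968, 55419, 64090, 74646]

theorem candN_all : (List.range 2649).all (fun k => (!okF (23 * k + 1) || candN.contains (23 * k + 1)) &&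
    (!okF (23 * k + 22) || candN.contains (23 * k + 22))) = true := by decide +kernel

theorem candX_all : (List.range 3773).all (fun k =>
    (!okF (23 * k + 11) || candX.contains (23 * k + 11)) &&
      (!okF (23 * k + 12) || k == 3772 || candX.contains (23 * k + 12))) = true := by decide +kernel

/-- the exceptions `(n, |u|, B)` -/
def exc : List (ℕ × ℕ × ℤ) :=
  [(37961, 3553, 649), (37961, 5049, 649), (41412, 34, 364), (41412, 1530, 364), (41412, 5831, 1046), (41412, 7072, 1508), (41412, 11373, 3334), (41412, 17170, 7404), (41412, 17238, 7404), (41412, 23035, 12838), (41412, 28577, 19702), (55419, 32097, 18811), (55419, 45253, 37115)]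

/-- the check for `|u| = v` -/
def chkV (n v : ℕ) : Bool :=
  let s : ℤ := ((306936 * v ^ 2 / n : ℕ) : ℤ) - n
  !(s % 391 == 0) ||
    let k : ℤ := s / 391
    let t₀ : ℤ := (-(n : ℤ) - 44239 * k) / 275616
    (List.range 4).all fun i =>
      let t : ℤ := t₀ + i
      let B : ℤ := 113 * k + 704 * t
      let C : ℤ := -13 * k - 81 * t
      !(decide (0 ≤ (n : ℤ) + 351 * B - 352 * C)) || !(decide (0 ≤ (n : ℤ) - 81 * B + 80 * C)) ||
        !(decide ((3 : ℤ) ∣ (n : ℤ) - C)) || decide (B = n) || !(decide (B ≤ n)) || !(decide (-(n : ℤ) ≤ B)) ||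
          !(decide (R11 n B)) || !(decide (R13 n B)) || !(decide ((n : ℤ) ∣ 9720970056 * B)) || exc.contains (n, v, B)

/-- the check -/
def chkE (n : ℕ) : Bool :=
  let q := n / Nat.gcd n 306936
  (List.range (n / q + 1)).all fun j => chkV n (q * j)

theorem chkN_all : candN.all chkE = true := by decide +kernel
theorem chkX_all : candX.all chkE = true := by decide +kernel

theorem mem_exc_of {n v : ℕ} {B C : ℤ} (hn : 0 < n) (hlt : n < 86768)
    (hR : (n : ℤ) * (n + 31671 * B + 275264 * C) = 306936 * (v : ℤ) ^ 2)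
    (p1 : 0 ≤ (n : ℤ) + 351 * B - 352 * C) (p2 : 0 ≤ (n : ℤ) - 81 * B + 80 * C) (h3 : (3 : ℤ) ∣ (n : ℤ) - C)
    (hB : (n : ℤ) ∣ 9720970056 * B) (b1 : |B| ≤ n) (ne : B ≠ n) (r11 : R11 n B) (r13 : R13 n B)
    (hchk : chkV n v = true) : (n, v, B) ∈ exc := by
  have hd : n ∣ 306936 * v ^ 2 := by
    have : (n : ℤ) ∣ ((306936 * v ^ 2 : ℕ) : ℤ) := ⟨_, by push_cast; rw [← hR]⟩
    exact_mod_cast this
  obtain ⟨w, hw⟩ := hd
  have e1 : 306936 * v ^ 2 / n = w := by rw [hw]; exact Nat.mul_div_cancel_left _ hn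
  have e3 : (n : ℤ) + 31671 * B + 275264 * C = w := by
    have h1 : ((306936 * v ^ 2 : ℕ) : ℤ) = n * w := by exact_mod_cast hw
    push_cast at h1
    rw [h1] at hR
    exact mul_left_cancel₀ (by exact_mod_cast hn.ne') hR
  have e4 : (w : ℤ) - n = 391 * (81 * B + 704 * C) := by linarith
  obtain ⟨b2, b3⟩ := abs_le.1 b1
  unfold chkV at hchk
  simp only [e1, e4] at hchk
  have e5 : 391 * (81 * B + 704 * C) / 391 = 81 * B + 704 * C := by omega
  have e6 : (391 * (81 * B + 704 * C) % 391 == 0) = true := by rw [beq_iff_eq]; omega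
  rw [e5, e6, Bool.not_true, Bool.false_or] at hchk
  set k : ℤ := 81 * B + 704 * C with hk
  -- the parameter
  set t : ℤ := -(13 * B + 113 * C) with ht
  have f1 : 113 * k + 704 * t = B := by rw [hk, ht]; ring
  have f2 : -13 * k - 81 * t = C := by rw [hk, ht]; ring
  have hk0 : -(n : ℤ) ≤ 391 * k := by omega
  have g1 : 0 ≤ (n : ℤ) + 44239 * k + 275616 * t := by linarith
  have g2 : 0 ≤ (n : ℤ) - 10193 * k - 63504 * t := by linarith
  have f3 : (-(n : ℤ) - 44239 * k) / 275616 ≤ t := by omega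
  have f4 : t - (-(n : ℤ) - 44239 * k) / 275616 < 4 := by omega
  obtain ⟨i, hi⟩ : ∃ i : ℕ, t = (-(n : ℤ) - 44239 * k) / 275616 + i :=
    ⟨(t - (-(n : ℤ) - 44239 * k) / 275616).toNat, by omega⟩
  have h5 := List.all_eq_true.1 hchk i (List.mem_range.2 (by omega))
  rw [← hi, f1, f2, decide_eq_true p1, decide_eq_true p2, decide_eq_true h3, decide_eq_false ne, decide_eq_true b3,
    decide_eq_true b2, decide_eq_true r11, decide_eq_true r13, decide_eq_true hB] at h5
  simpa using h5

theorem mem_candN {n : ℕ} (h : okF n = true) (h23 : n % 23 = 1 ∨ n % 23 = 22) (hn : n < 60928) : n ∈ candN := by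
  have hk : n / 23 < 2649 ∨ n = 60927 + 1 := by omega
  rcases hk with hk | hk
  · have h1 := List.all_eq_true.1 candN_all (n / 23) (List.mem_range.2 hk)
    rw [Bool.and_eq_true] at h1
    rcases h23 with h2 | h2
    · have e : 23 * (n / 23) + 1 = n := by omega
      rw [e, h, Bool.not_true, Bool.false_or, List.contains_iff_mem] at h1
      exact h1.1
    · have e : 23 * (n / 23) + 22 = n := by omega
      rw [e, h, Bool.not_true, Bool.false_or, List.contains_iff_mem] at h1
      exact h1.2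
  · omega

theorem mem_candX {n : ℕ} (h : okF n = true) (h23 : n % 23 = 11 ∨ n % 23 = 12) (hn : n < 86768) : n ∈ candX := by
  have hk : n / 23 < 3773 := by omega
  have h1 := List.all_eq_true.1 candX_all (n / 23) (List.mem_range.2 hk)
  rw [Bool.and_eq_true] at h1
  rcases h23 with h2 | h2
  · have e : 23 * (n / 23) + 11 = n := by omega
    rw [e, h, Bool.not_true, Bool.false_or, List.contains_iff_mem] at h1
    exact h1.1
  · have e : 23 * (n / 23) + 12 = n := by omega
    have e2 : (n / 23 == 3772) = false := by rw [beq_eq_false_iff_ne]; omega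
    rw [e, e2, h, Bool.not_true, Bool.false_or, Bool.false_or, List.contains_iff_mem] at h1
    exact h1.2

/-- **the enumeration** -/
theorem arith {n : ℕ} {u B C : ℤ} (hn : n ∣ 1255205709190661721292800)
    (h29 : n % 29 = 0 ∨ n % 29 = 1 ∨ n % 29 = 28) (h17 : n % 17 = 0 ∨ n % 17 = 1 ∨ n % 17 = 16)
    (h23 : ((n % 23 = 1 ∨ n % 23 = 22) ∧ n < 60928) ∨ ((n % 23 = 11 ∨ n % 23 = 12) ∧ n < 86768))
    (hR : (n : ℤ) * (n + 31671 * B + 275264 * C) = 306936 * u ^ 2)
    (p1 : 0 ≤ (n : ℤ) + 351 * B - 352 * C) (p2 : 0 ≤ (n : ℤ) - 81 * B + 80 * C)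
    (hu : (n : ℤ) ∣ 306936 * u) (hB : (n : ℤ) ∣ 9720970056 * B) (h3 : (3 : ℤ) ∣ (n : ℤ) - C)
    (b1 : |B| ≤ n) (u1 : |u| ≤ n) (ne : B ≠ n) (r11 : R11 n B) (r13 : R13 n B) : (n, u.natAbs, B) ∈ exc := by
  have hpos : 0 < n := Nat.pos_of_ne_zero (by rintro rfl; simp at h23)
  have hlt : n < 86768 := by omega
  have hok : okF n = true := by
    rw [okF, Bool.and_eq_true, Bool.and_eq_true]
    refine ⟨?_, ?_, ?_⟩
    · rw [beq_iff_eq]; exact Nat.mod_eq_zero_of_dvd hn
    · rcases h29 with h | h | h <;> simp [h]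
    · rcases h17 with h | h | h <;> simp [h]
  have h4 : chkE n = true := by
    rcases h23 with ⟨h, hl⟩ | ⟨h, hl⟩
    · exact List.all_eq_true.1 chkN_all n (mem_candN hok h hl)
    · exact List.all_eq_true.1 chkX_all n (mem_candX hok h hl)
  have hqd : n / Nat.gcd n 306936 ∣ u.natAbs := by
    have h5 : n ∣ 306936 * u.natAbs := by
      have := Int.natAbs_dvd_natAbs.2 hu
      rwa [Int.natAbs_mul, Int.natAbs_natCast] at this
    have hg : 0 < Nat.gcd n 306936 := Nat.gcd_pos_of_pos_left _ hpos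
    have h6 : Nat.Coprime (n / Nat.gcd n 306936) (306936 / Nat.gcd n 306936) := Nat.coprime_div_gcd_div_gcd hg
    apply h6.dvd_of_dvd_mul_left
    obtain ⟨g1, hg1⟩ := Nat.gcd_dvd_left n 306936
    obtain ⟨g2, hg2⟩ := Nat.gcd_dvd_right n 306936
    set g := Nat.gcd n 306936 with hgdef
    have e5 : n / g = g1 := by rw [hg1]; exact Nat.mul_div_cancel_left _ hg
    have e6 : 306936 / g = g2 := by rw [hg2]; exact Nat.mul_div_cancel_left _ hg
    rw [e5, e6]
    rw [hg1, hg2, mul_assoc] at h5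
    exact Nat.dvd_of_mul_dvd_mul_left hg h5
  obtain ⟨j, hj⟩ := hqd
  unfold chkE at h4
  set q := n / Nat.gcd n 306936 with hq
  have hq0 : 0 < q := Nat.div_pos (Nat.le_of_dvd hpos (Nat.gcd_dvd_left _ _)) (Nat.gcd_pos_of_pos_left _ hpos)
  have hu' : q * j ≤ n := by
    rw [← hj]
    have : ((u.natAbs : ℕ) : ℤ) ≤ (n : ℤ) := by rw [Int.natCast_natAbs]; exact u1
    exact_mod_cast this
  have hj' : j < n / q + 1 := by
    rw [Nat.lt_succ_iff, Nat.le_div_iff_mul_le hq0, mul_comm]; exact hu'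
  have h5 := List.all_eq_true.1 h4 j (List.mem_range.2 hj')
  rw [hj]
  exact mem_exc_of hpos hlt (B := B) (C := C) (by rw [hR, ← hj, Int.natCast_natAbs, sq_abs]) p1 p2 h3 hB b1 ne r11 r13 h5

end Cfsg.Agent.H133.TC
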