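import Cfsg.Agent.H133.TC.FiArith
import Cfsg.Agent.H26.Ore.Fi24Deg
import Cfsg.Agent.H201.Fi.Fi24W
import Cfsg.Agent.H201.Fi.Levels
import Cfsg.Agent.H49.Four.TEight
import Cfsg.Agent.H65.Ore.Split

/-!
# `Fi24'`: the degrees modulo 23 (helper133, for S4173, S2464, S2452)

* `trans3` : `Fi24` is transitive on the commuting triples of transpositions;
* `wt`, `lv` : the weights and the level inequality on `Fi23`;
* `hDN` : a non-trivial irreducible character of degree `± 1` modulo 23 has degree at least 60928;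
* `hDX` : an irreducible character of degree `± 11` modulo 23 has degree at least 86768;
* `prd`, `prd23` : `x`, `y` of order 23, `|C(g)| ≤ 78382080`: `g` is the product of a conjugate of `x` and a conjugate of `y`.
-/

set_option autoImplicit false
set_option linter.unusedSectionVars false

namespace Cfsg.Agent.H133.TC

open Cfsg Subgroup
open Cfsg.Agent.Characters Cfsg.Agent.Characters.Core Cfsg.Agent.OddOrderCharacters
open Cfsg.Agent.R08.FiTwentyFour (L facts conj_mem_L gen_mem_L sq_L finite_Fi24 index_commutator card_commutator)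
open Cfsg.Agent.Fischer480.Defs
open Cfsg.Agent.Fischer.Fi23Z (z0)
open Cfsg.Agent.Fischer.Fi24Class (gen)
open Cfsg.Agent.Schreier.FiTwentyFour (d d_none d_comm d_inj d_sq gp)

local notation "Fi24" => Cfsg.Spor.Fi24

/-- the third member of the base triple -/
noncomputable def c0 : Fi24 := gen .l * facts.phi (Cfsg.Agent.Fischer.Fi23Hom.gen .a)

/-- `Fi24` is transitive on the commuting triples of transpositions -/
theorem trans3 {a b c : Fi24} (ha : a ∈ L) (hb : b ∈ L) (hc : c ∈ L) (hab : a ≠ b) (hac : a ≠ c) (hbc : b ≠ c)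
    (cab : a * b = b * a) (cac : a * c = c * a) (cbc : b * c = c * b) :
    ∃ g : Fi24, g * gen .l * g⁻¹ = a ∧ g * facts.b0 * g⁻¹ = b ∧ g * c0 * g⁻¹ = c := by
  obtain ⟨h, -, rfl, rfl⟩ := facts.exists_conj ha hb hab cab
  have e : ∀ u : Fi24, h * (h⁻¹ * u * h) * h⁻¹ = u := fun u => by group
  have h1 : h⁻¹ * c * h ∈ L := by
    have := conj_mem_L hc h⁻¹
    rwa [inv_inv] at this
  obtain ⟨d, hd, h2⟩ := facts.commuting_iff.1 ⟨h1, fun h3 => hac (by rw [← h3, e]), by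
    calc h⁻¹ * c * h * gen .l = h⁻¹ * (c * (h * gen .l * h⁻¹)) * h := by group
      _ = h⁻¹ * ((h * gen .l * h⁻¹) * c) * h := by rw [cac]
      _ = gen .l * (h⁻¹ * c * h) := by group⟩
  have hb0 : facts.b0 = gen .l * facts.phi z0 := by unfold R08.FiTwentyFour.Facts.b0; rfl
  have ll : gen .l * gen .l = (1 : Fi24) := Cfsg.Agent.Fischer.Fi24Class.gen_sq _
  have hdz : d ≠ z0 := by
    intro hd0
    apply hbc
    rw [hb0, ← hd0, ← h2, e]
  have hdc : d * z0 = z0 * d := by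
    have h3 : h⁻¹ * c * h * facts.b0 = facts.b0 * (h⁻¹ * c * h) := by
      calc h⁻¹ * c * h * facts.b0 = h⁻¹ * (c * (h * facts.b0 * h⁻¹)) * h := by group
        _ = h⁻¹ * ((h * facts.b0 * h⁻¹) * c) * h := by rw [cbc]
        _ = facts.b0 * (h⁻¹ * c * h) := by group
    rw [h2, hb0] at h3
    apply facts.phi_injective
    rw [map_mul, map_mul]
    have e1 : gen .l * facts.phi d * (gen .l * facts.phi z0) = facts.phi d * facts.phi z0 := by
      calc gen .l * facts.phi d * (gen .l * facts.phi z0) = gen .l * (facts.phi d * gen .l) * facts.phi z0 := by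
            simp only [mul_assoc]
        _ = gen .l * (gen .l * facts.phi d) * facts.phi z0 := by rw [facts.phi_comm]
        _ = (gen .l * gen .l) * (facts.phi d * facts.phi z0) := by simp only [mul_assoc]
        _ = _ := by rw [ll, one_mul]
    have e2 : gen .l * facts.phi z0 * (gen .l * facts.phi d) = facts.phi z0 * facts.phi d := by
      calc gen .l * facts.phi z0 * (gen .l * facts.phi d) = gen .l * (facts.phi z0 * gen .l) * facts.phi d := by
            simp only [mul_assoc]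
        _ = gen .l * (gen .l * facts.phi z0) * facts.phi d := by rw [facts.phi_comm]
        _ = (gen .l * gen .l) * (facts.phi z0 * facts.phi d) := by simp only [mul_assoc]
        _ = _ := by rw [ll, one_mul]
    rw [← e1, ← e2, h3]
  obtain ⟨k, hk, rfl⟩ := Cfsg.Agent.R08.FiTwentyThree.commuting_iff.1 ⟨hd, hdz, hdc⟩
  have hkz : k * z0 * k⁻¹ = z0 := by
    rw [(Cfsg.Agent.R08.FiTwentyThree.mem_K_iff k).1 hk, mul_inv_cancel_right]
  have key : ∀ x : Cfsg.Spor.Fi23, facts.phi k * (gen .l * facts.phi x) * (facts.phi k)⁻¹ =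
      gen .l * facts.phi (k * x * k⁻¹) := by
    intro x
    rw [map_mul, map_mul, map_inv, ← mul_assoc, facts.phi_comm]
    simp only [mul_assoc]
  refine ⟨h * facts.phi k, ?_, ?_, ?_⟩
  · calc h * facts.phi k * gen .l * (h * facts.phi k)⁻¹ = h * (facts.phi k * gen .l * (facts.phi k)⁻¹) * h⁻¹ := by group
      _ = h * gen .l * h⁻¹ := by rw [facts.phi_comm, mul_inv_cancel_right]
  · calc h * facts.phi k * facts.b0 * (h * facts.phi k)⁻¹ = h * (facts.phi k * facts.b0 * (facts.phi k)⁻¹) * h⁻¹ := by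
          group
      _ = h * facts.b0 * h⁻¹ := by rw [hb0, key, hkz]
  · calc h * facts.phi k * c0 * (h * facts.phi k)⁻¹ = h * (facts.phi k * c0 * (facts.phi k)⁻¹) * h⁻¹ := by group
      _ = h * (h⁻¹ * c * h) * h⁻¹ := by rw [c0, key, ← h2]
      _ = c := e c

theorem d_mem_L (p : GolayPt) : d p ∈ L := by
  unfold d
  exact conj_mem_L (gen_mem_L .l) _

/-- the weights and the values on the commuting triples -/
theorem wt (psi : IrrCharacter Fi24) {n u B C : ℤ} (V : H180.PSD.Vals psi n u B C) :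
    ∃ a0 a1 b0 b1 c : ℕ, n = a0 + a1 + 759 * (b0 + b1) + 2576 * c ∧ u = a0 - a1 + 253 * (b0 - b1) ∧
      B = a0 + a1 + 55 * (b0 + b1) - 112 * c ∧
      ∀ x ∈ L, ∀ y ∈ L, ∀ z ∈ L, x ≠ y → x ≠ z → y ≠ z → Commute x y → Commute x z → Commute y z →
        (psi : Fi24 → ℂ) (x * (y * z)) = ((a0 - a1 - 3 * (b0 - b1) : ℤ) : ℂ) := by
  have hfin := finite_Fi24
  obtain ⟨a0, a1, b0, b1, c, h1, h2, h3, h4, -⟩ := H201.Fi.weights24 (isIrr_isCharacter psi.2)
  have n01 : (none : GolayPt) ≠ some 0 := by decide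
  have n02 : (none : GolayPt) ≠ some 1 := by decide
  have n12 : (some 0 : GolayPt) ≠ some 1 := by decide
  refine ⟨a0, a1, b0, b1, c, ?_, ?_, ?_, ?_⟩
  · rw [V.one] at h1
    exact_mod_cast h1
  · rw [V.val_d _ (d_mem_L _)] at h2
    exact_mod_cast h2
  · rw [V.val_c _ (d_mem_L _) _ (d_mem_L _) (fun h => n01 (d_inj h)) (d_comm _ _)] at h3
    exact_mod_cast h3
  · intro x hx y hy z hz hxy hxz hyz cxy cxz cyz
    obtain ⟨g, rfl, rfl, rfl⟩ := trans3 hx hy hz hxy hxz hyz cxy cxz cyz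
    obtain ⟨g', e1, e2, e3⟩ := trans3 (d_mem_L none) (d_mem_L (some 0)) (d_mem_L (some 1)) (fun h => n01 (d_inj h))
      (fun h => n02 (d_inj h)) (fun h => n12 (d_inj h)) (d_comm _ _) (d_comm _ _) (d_comm _ _)
    have hcl := isIrr_isClassFunction psi.2
    have h5 : g * gen .l * g⁻¹ * (g * facts.b0 * g⁻¹ * (g * c0 * g⁻¹)) = g * (gen .l * (facts.b0 * c0)) * g⁻¹ := by group
    have h6 : d none * (d (some 0) * d (some 1)) = g' * (gen .l * (facts.b0 * c0)) * g'⁻¹ := by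
      rw [← e1, ← e2, ← e3]; group
    rw [h5, hcl, ← hcl (gen .l * (facts.b0 * c0)) g', ← h6, h4]
    push_cast
    ring

/-- **the level inequality** -/
theorem lv (psi : IrrCharacter Fi24) {n u B C X : ℤ} (V : H180.PSD.Vals psi n u B C)
    (hX : ∀ x ∈ L, ∀ y ∈ L, ∀ z ∈ L, x ≠ y → x ≠ z → y ≠ z → Commute x y → Commute x z → Commute y z →
        (psi : Fi24 → ℂ) (x * (y * z)) = (X : ℂ)) {ε : ℤ} (hε : ε * ε = 1) :
    391 * (u + ε * B) ^ 2 ≤ (n + ε * u + 390 * (B + ε * X)) * (n + ε * u) := by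
  have hfin := finite_Fi24
  have hl : gen .l ∈ L := gen_mem_L .l
  have h := H201.Fi.level7 (χ := (psi : Fi24 → ℂ)) (E := Loc L (gen .l)) (z := gen .l) (ε := (ε : ℝ))
    (M := ((n + ε * u : ℤ) : ℝ)) (x := ((u + ε * B : ℤ) : ℝ)) (c := ((B + ε * X : ℤ) : ℝ)) psi.2
    (H49.Four.TEight.isT8.2.1 _ hl) (fun f hf => sq_L hf.1) (sq_L hl) (fun f hf => hf.2.2) (by exact_mod_cast hε)
    ?_ ?_ ?_
  · have h' : (391 : ℝ) * ((u + ε * B : ℤ) : ℝ) ^ 2 ≤ (((n + ε * u : ℤ) : ℝ) + 390 * ((B + ε * X : ℤ) : ℝ)) *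
        ((n + ε * u : ℤ) : ℝ) := h
    have h'' : 391 * (u + ε * B) ^ 2 ≤ ((n + ε * u) + 390 * (B + ε * X)) * (n + ε * u) := by exact_mod_cast h'
    exact h''
  · rw [V.one, V.val_d _ hl]; push_cast; ring
  · intro f hf
    rw [V.val_d f hf.1, V.val_c _ hl f hf.1 hf.2.1.symm hf.2.2]; push_cast; ring
  · intro f hf g hg hfg hc
    rw [V.val_c f hf.1 g hg.1 hfg hc, hX _ hl f hf.1 g hg.1 hf.2.1.symm hg.2.1.symm hfg hf.2.2 hg.2.2 hc]
    push_cast; ring

/-- no exception is possible -/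
theorem no_exc (psi : IrrCharacter Fi24) {n : ℕ} {u B C : ℤ} (V : H180.PSD.Vals psi n u B C)
    (h : (n, u.natAbs, B) ∈ exc) : False := by
  obtain ⟨a0, a1, b0, b1, c, h1, h2, h3, h4⟩ := wt psi V
  have l1 := lv psi V h4 (ε := 1) (by norm_num)
  have l2 := lv psi V h4 (ε := -1) (by norm_num)
  simp only [exc, List.mem_cons, Prod.mk.injEq, List.not_mem_nil, or_false] at h
  rcases h with ⟨e1, e2, e3⟩ | ⟨e1, e2, e3⟩ | ⟨e1, e2, e3⟩ | ⟨e1, e2, e3⟩ | ⟨e1, e2, e3⟩ | ⟨e1, e2, e3⟩ |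
    ⟨e1, e2, e3⟩ | ⟨e1, e2, e3⟩ | ⟨e1, e2, e3⟩ | ⟨e1, e2, e3⟩ | ⟨e1, e2, e3⟩ | ⟨e1, e2, e3⟩ | ⟨e1, e2, e3⟩
  · subst e1
    subst e3
    have h5 : u = 3553 ∨ u = -3553 := by omega
    rcases h5 with h5 | h5
    · have h6 : (a0 - a1 - 3 * (b0 - b1) : ℤ) = 1249 ∨ (a0 - a1 - 3 * (b0 - b1) : ℤ) = 737 := by omega
      rcases h6 with h6 | h6 <;> rw [h6, h5] at l2 <;> norm_num at l2
    · have h6 : (a0 - a1 - 3 * (b0 - b1) : ℤ) = -1249 ∨ (a0 - a1 - 3 * (b0 - b1) : ℤ) = -737 := by omega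
      rcases h6 with h6 | h6 <;> rw [h6, h5] at l1 <;> norm_num at l1
  all_goals
    clear l1 l2 h4
    omega

/-! ### The degrees -/

open Cfsg.Agent.H26.Ore.Fi24Deg (card_F' simple_F' res17 index_two val_z13 val_z11 z13 three_psi abs_le lu_ne)
open Cfsg.Agent.H48.OreFi (finite')

/-- **characters which extend** -/
theorem caseE {χ : IrrCharacter Spor.Fi24'} {psi : IrrCharacter Fi24} (hne : (χ : Spor.Fi24' → ℂ) ≠ 1)
    (h : ∀ g : Spor.Fi24', (psi : Fi24 → ℂ) (g : Fi24) = (χ : Spor.Fi24' → ℂ) g)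
    (h23 : ((charDegree (χ : Spor.Fi24' → ℂ) % 23 = 1 ∨ charDegree (χ : Spor.Fi24' → ℂ) % 23 = 22) ∧
        charDegree (χ : Spor.Fi24' → ℂ) < 60928) ∨
      ((charDegree (χ : Spor.Fi24' → ℂ) % 23 = 11 ∨ charDegree (χ : Spor.Fi24' → ℂ) % 23 = 12) ∧
        charDegree (χ : Spor.Fi24' → ℂ) < 86768)) : False := by
  have hfin : Finite Spor.Fi24' := finite'
  have hfin' := finite_Fi24
  have hsim := simple_F'
  obtain ⟨n, u, B, C, V⟩ := H180.PSD.exists_vals psi
  have hχ1 : (χ : Spor.Fi24' → ℂ) 1 = (charDegree (χ : Spor.Fi24' → ℂ) : ℂ) := Blocks.Knorr.charDegree_eq χ.2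
  set N := charDegree (χ : Spor.Fi24' → ℂ) with hN
  have h1 := h 1
  rw [OneMemClass.coe_one, V.one, hχ1] at h1
  have hnN : n = N := by exact_mod_cast h1
  subst hnN
  have hz13 : (χ : Spor.Fi24' → ℂ) z13 = B := by rw [← h]; exact val_z13 V
  have hz11 : (χ : Spor.Fi24' → ℂ) H843.Ore.R11.z = B := by rw [← h]; exact val_z11 V
  have hdeg : charDegree (psi : Fi24 → ℂ) = N := by
    have h4 := Blocks.Knorr.charDegree_eq psi.2
    have h6 := V.one
    rw [h4] at h6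
    exact_mod_cast h6
  have h29 : N % 29 = 0 ∨ N % 29 = 1 ∨ N % 29 = 28 := by
    have h2 := H843.Fi24Ext.residue psi
    rw [hdeg] at h2
    omega
  refine no_exc psi V (arith (n := N) (u := u) (B := B) (C := C) ?_ h29 (res17 χ) h23 V.rel V.psd1 V.psd2 V.dvd_u ?_
    (three_psi V) (abs_le χ hχ1 hz13) ?_ ?_ (H843.Ore.R11.r11 χ hχ1 hz11) ?_)
  · rw [← card_F']
    exact Blocks.Knorr.charDegree_dvd χ.2
  · obtain ⟨c, hc⟩ := V.dvd_B
    exact ⟨2 * c, by linarith⟩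
  · exact abs_le psi (by rw [V.one]; norm_cast) (V.val_d _ (gen_mem_L .l))
  · intro hB
    have := Fintype.ofFinite Spor.Fi24'
    have h2 := SmallSimple.DihedralNormalizer.eq_one_of_apply_eq χ.2 hne (s := z13) (by rw [hz13, hχ1, hB]; norm_cast)
    have h3 : (z13 : Fi24) = 1 := congrArg (fun y : Spor.Fi24' => (y : Fi24)) h2
    have h4 : H845.T13.u = (gen .l)⁻¹ := eq_inv_of_mul_eq_one_right h3
    exact lu_ne (h4.trans (inv_eq_of_mul_eq_one_right (sq_L (gen_mem_L .l)))).symm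
  · exact H26.Ore.R13.r13 H845.T13.facts index_commutator (fun d hd => R08.FiTwentyFour.odd hd) _ χ hχ1 hz13

/-- characters which do not extend have degrees `0`, `± 1/2`... modulo 23: none here -/
theorem caseS {χ : IrrCharacter Spor.Fi24'} {psi : IrrCharacter Fi24}
    (h0 : ∀ g : Fi24, g ∉ commutator Fi24 → (psi : Fi24 → ℂ) g = 0)
    (h2 : ∀ g : Spor.Fi24', ∀ t : Fi24, t ∉ commutator Fi24 → Commute t (g : Fi24) →
      (psi : Fi24 → ℂ) (g : Fi24) = 2 * (χ : Spor.Fi24' → ℂ) g) :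
    charDegree (χ : Spor.Fi24' → ℂ) % 23 = 0 := by
  have hfin : Finite Spor.Fi24' := finite'
  have hfin' := finite_Fi24
  obtain ⟨n, u, B, C, V⟩ := H180.PSD.exists_vals psi
  have hχ1 : (χ : Spor.Fi24' → ℂ) 1 = (charDegree (χ : Spor.Fi24' → ℂ) : ℂ) := Blocks.Knorr.charDegree_eq χ.2
  set N := charDegree (χ : Spor.Fi24' → ℂ) with hN
  have hl : gen .l ∉ commutator Fi24 := R08.FiTwentyFour.odd (gen_mem_L .l)
  have h1 := h2 1 _ hl (Commute.one_right _)
  rw [OneMemClass.coe_one, V.one, hχ1] at h1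
  have hnN : n = 2 * N := by exact_mod_cast h1
  subst hnN
  have hu : u = 0 := by
    have h3 := V.val_d _ (gen_mem_L .l)
    rw [h0 _ hl] at h3
    exact_mod_cast h3.symm
  subst hu
  have hpos := V.pos
  have h3 := V.rel
  have h4 : (2 * (N : ℤ)) + 31671 * B + 275264 * C = 0 := by
    have h5 : (2 * (N : ℤ)) * (2 * (N : ℤ) + 31671 * B + 275264 * C) = 0 := by linarith
    rcases mul_eq_zero.1 h5 with h6 | h6
    · omega
    · exact h6
  omega

/-- **The degrees modulo 23** -/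
theorem hDeg (χ : IrrCharacter Spor.Fi24') (hne : (χ : Spor.Fi24' → ℂ) ≠ 1)
    (h23 : ((charDegree (χ : Spor.Fi24' → ℂ) % 23 = 1 ∨ charDegree (χ : Spor.Fi24' → ℂ) % 23 = 22) ∧
        charDegree (χ : Spor.Fi24' → ℂ) < 60928) ∨
      ((charDegree (χ : Spor.Fi24' → ℂ) % 23 = 11 ∨ charDegree (χ : Spor.Fi24' → ℂ) % 23 = 12) ∧
        charDegree (χ : Spor.Fi24' → ℂ) < 86768)) : False := by
  have hfin' := finite_Fi24
  obtain ⟨psi, hpsi, h | ⟨h0, h2⟩⟩ := index_two (commutator Fi24) index_commutator χ.2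
  · exact caseE (psi := ⟨psi, hpsi⟩) hne h h23
  · have := caseS (χ := χ) (psi := ⟨psi, hpsi⟩) h0 h2
    omega

theorem hDN : ∀ χ : IrrCharacter Spor.Fi24', (χ : Spor.Fi24' → ℂ) ≠ 1 →
    (charDegree (χ : Spor.Fi24' → ℂ) % 23 = 1 ∨ charDegree (χ : Spor.Fi24' → ℂ) % 23 = 22) →
      60928 ≤ charDegree (χ : Spor.Fi24' → ℂ) := by
  intro χ hne h23
  by_contra h
  exact hDeg χ hne (Or.inl ⟨h23, not_le.1 h⟩)

theorem hDX : ∀ χ : IrrCharacter Spor.Fi24', (χ : Spor.Fi24' → ℂ) ≠ 1 →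
    (charDegree (χ : Spor.Fi24' → ℂ) % 23 = 11 ∨ charDegree (χ : Spor.Fi24' → ℂ) % 23 = 12) →
      86768 ≤ charDegree (χ : Spor.Fi24' → ℂ) := by
  intro χ hne h23
  by_contra h
  exact hDeg χ hne (Or.inr ⟨h23, not_le.1 h⟩)

/-! ### The products of two elements of order 23 -/

open Cfsg.Agent.H26.Ore.Fi24Deg (not_comm)

/-- **`x`, `y` of order 23, `|C(g)| ≤ 78382080`: `g` is the product of a conjugate of `x` and a conjugate of `y`.** -/
theorem prd {x y : Spor.Fi24'} (hx : orderOf x = 23) (hy : orderOf y = 23) {g : Spor.Fi24'}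
    (hc : Nat.card (centralizer ({g} : Set Spor.Fi24')) ≤ 78382080) : H65.Ore.Prd x y g := by
  have hfin : Finite Spor.Fi24' := finite'
  have hsim := simple_F'
  exact H65.Ore.prd_all not_comm (p := 23) (by norm_num) card_F' hx (H161.Rec.FiTF.sc23 x hx) 11 2 1000
    (by decide +kernel) (DN := 60928) (DX := 86768) hDN hDX (by norm_num) (by norm_num) hy hc

/-- the form used by helper713 -/
theorem prd23 (g : Spor.Fi24') (hc : Nat.card (centralizer ({g} : Set Spor.Fi24')) ≤ 78382080) :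
    ∃ x : Spor.Fi24', orderOf x = 23 ∧ ∃ u v : Spor.Fi24', g = (u * x * u⁻¹) * (v * x⁻¹ * v⁻¹) := by
  have hfin : Finite Spor.Fi24' := finite'
  obtain ⟨x, hx, -⟩ := H161.Rec.FiTF.cent23
  exact ⟨x, hx, prd hx (by rw [orderOf_inv, hx]) hc⟩

end Cfsg.Agent.H133.TC
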